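import Mathlib
import Cfsg.Agent.S3975
import Cfsg.Agent.Lib.Helper87.Kul.Defs

set_option autoImplicit false

namespace Cfsg.Agent.Lib.Helper91.Kul

open MulAction
open scoped Pointwise
open Cfsg.Agent.Lib.Helper87.Kul Cfsg.Agent.S3975

variable {G : Type*} [Group G] [Fintype G] [DecidableEq G]

open Classical in
/-- [A] the `S`-invariant subsets (left multiplication) of size `|S| * j` are the unions of `j` right cosets. -/
theorem card_invariant (S : Subgroup G) (j : ℕ) :
    (((Finset.univ : Finset G).powersetCard (Nat.card S * j)).filter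
      (fun M => S ≤ stabilizer G M)).card = (S.index).choose j := by
  set Q := Quotient (QuotientGroup.rightRel S) with hQ
  letI : Fintype Q := Fintype.ofFinite Q
  have hcardQ : Fintype.card Q = S.index := by
    rw [← Nat.card_eq_fintype_card, Subgroup.index]
    exact Nat.card_congr (QuotientGroup.quotientRightRelEquivQuotientLeftRel S)
  let π : G → Q := Quotient.mk _
  have hπ : ∀ x y, π x = π y ↔ y * x⁻¹ ∈ S := fun x y => by
    rw [Quotient.eq]; exact QuotientGroup.rightRel_apply
  have hπs : Function.Surjective π := Quotient.mk_surjective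
  have hfib : ∀ A : Finset Q,
      (Finset.univ.filter (fun g => π g ∈ A)).card = Nat.card S * A.card := by
    intro A
    have hmaps : ((Finset.univ.filter (fun g => π g ∈ A) : Finset G) : Set G).MapsTo π A := by
      intro x hx
      exact (Finset.mem_filter.mp (Finset.mem_coe.mp hx)).2
    rw [Finset.card_eq_sum_card_fiberwise hmaps]
    rw [Finset.sum_const_nat (m := Nat.card S), mul_comm]
    intro q hq
    obtain ⟨x, rfl⟩ := hπs q
    rw [← card_coset S x]
    congr 1
    ext g
    simp only [Finset.mem_filter, Finset.mem_univ, true_and, mem_coset]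
    constructor
    · rintro ⟨_, h⟩
      exact (hπ x g).mp h.symm
    · intro h
      have := (hπ x g).mpr h
      exact ⟨this ▸ hq, this.symm⟩
  have hSpos : 0 < Nat.card S := Nat.card_pos
  rw [← hcardQ, ← Finset.card_univ, ← Finset.card_powersetCard]
  symm
  apply Finset.card_nbij (fun A => Finset.univ.filter (fun g => π g ∈ A))
  · intro A hA
    rw [Finset.mem_coe, Finset.mem_powersetCard] at hA
    rw [Finset.mem_coe, Finset.mem_filter, Finset.mem_powersetCard]
    refine ⟨⟨Finset.subset_univ _, by rw [hfib, hA.2]⟩, ?_⟩
    intro s hs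
    rw [mem_stabilizer_finset]
    intro g
    simp only [Finset.mem_filter, Finset.mem_univ, true_and, smul_eq_mul]
    have : π (s * g) = π g := by
      rw [hπ]
      have : g * (s * g)⁻¹ = s⁻¹ := by group
      rw [this]; exact S.inv_mem hs
    rw [this]
  · intro A _ B _ hAB
    ext q
    obtain ⟨x, rfl⟩ := hπs q
    have := congrArg (fun M : Finset G => x ∈ M) hAB
    simpa using this
  · intro M hM
    rw [Finset.mem_coe, Finset.mem_filter, Finset.mem_powersetCard] at hM
    obtain ⟨⟨_, hMc⟩, hMS⟩ := hM
    have hpre : Finset.univ.filter (fun g => π g ∈ M.image π) = M := by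
      ext g
      simp only [Finset.mem_filter, Finset.mem_univ, true_and, Finset.mem_image]
      constructor
      · rintro ⟨m, hm, hmg⟩
        have h1 := (hπ m g).mp hmg
        have h2 := hMS h1
        rw [mem_stabilizer_finset'] at h2
        have := h2 hm
        rwa [smul_eq_mul, inv_mul_cancel_right] at this
      · intro hg
        exact ⟨g, hg, rfl⟩
    refine ⟨M.image π, ?_, hpre⟩
    rw [Finset.mem_coe, Finset.mem_powersetCard]
    refine ⟨Finset.subset_univ _, ?_⟩
    have := hfib (M.image π)
    rw [hpre, hMc] at this
    exact (Nat.eq_of_mul_eq_mul_left hSpos this).symm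

end Cfsg.Agent.Lib.Helper91.Kul
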