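import Mathlib
import Cfsg.Agent.S3975
import Cfsg.Agent.Lib.Helper87.Kul.Defs
import Cfsg.Agent.Lib.Helper91.Kul.A

set_option autoImplicit false

namespace Cfsg.Agent.Lib.Helper91.Kul

open MulAction
open scoped Pointwise
open Cfsg.Agent.Lib.Helper87.Kul Cfsg.Agent.S3975

variable {G : Type*} [Group G] [Fintype G] [DecidableEq G]

open Classical in
/-- [C] a subgroup `T` is the stabilizer of exactly `index T` subsets of size `|T|` (its right cosets). -/
theorem card_fiber (T : Subgroup G) :
    (((Finset.univ : Finset G).powersetCard (Nat.card T)).filter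
      (fun M => stabilizer G M = T)).card = T.index := by
  have h := card_invariant T 1
  rw [mul_one, Nat.choose_one_right] at h
  rw [← h]
  congr 1
  apply Finset.filter_congr
  intro M hM
  rw [Finset.mem_powersetCard] at hM
  constructor
  · intro h; rw [h]
  · intro hle
    symm
    apply Subgroup.eq_of_le_of_card_ge hle
    have := card_stabilizer_dvd M
    rw [hM.2] at this
    exact Nat.le_of_dvd Nat.card_pos this

end Cfsg.Agent.Lib.Helper91.Kul
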