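import Mathlib
import Cfsg.Agent.S3975
import Cfsg.Agent.Lib.Helper87.Kul.Defs
import Cfsg.Agent.Lib.Helper91.Kul.A
import Cfsg.Agent.Lib.Helper91.Kul.C

set_option autoImplicit false

namespace Cfsg.Agent.Lib.Helper91.Kul

open MulAction
open scoped Pointwise
open Cfsg.Agent.Lib.Helper87.Kul Cfsg.Agent.S3975

open Classical in
theorem sN_eq_card {G : Type*} [Group G] [Finite G] (n : ℕ) :
    letI : Fintype (Subgroup G) := Fintype.ofFinite _
    sN G n = ((Finset.univ : Finset (Subgroup G)).filter (fun H : Subgroup G => Nat.card H = n)).card := by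
  letI : Fintype (Subgroup G) := Fintype.ofFinite _
  unfold sN
  rw [Nat.card_eq_fintype_card, Fintype.card_subtype]

open Classical in
theorem mu_eq_card {G : Type*} [Group G] [Finite G] (n : ℕ) (T : Subgroup G) :
    letI : Fintype (Subgroup G) := Fintype.ofFinite _
    mu n T = (((Finset.univ : Finset (Subgroup G)).filter (fun H : Subgroup G => Nat.card H = n)).filter
      (fun S => S ≤ T)).card := by
  letI : Fintype (Subgroup G) := Fintype.ofFinite _
  unfold mu
  rw [Nat.card_eq_fintype_card, Fintype.card_subtype, Finset.filter_filter]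

open Classical in
/-- `pairsN` is the sum of the `mu T`. -/
theorem pairsN_eq_sum {G : Type*} [Group G] [Finite G] (n n' : ℕ) :
    letI : Fintype (Subgroup G) := Fintype.ofFinite _
    pairsN G n n' =
      ∑ T ∈ (Finset.univ : Finset (Subgroup G)).filter (fun H : Subgroup G => Nat.card H = n'), mu n T := by
  letI : Fintype (Subgroup G) := Fintype.ofFinite _
  unfold pairsN
  rw [Nat.card_eq_fintype_card, Fintype.card_subtype]
  have hmaps : (↑((Finset.univ : Finset (Subgroup G × Subgroup G)).filter
      (fun x => Nat.card x.1 = n ∧ Nat.card x.2 = n' ∧ x.1 ≤ x.2)) :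
        Set (Subgroup G × Subgroup G)).MapsTo
      Prod.snd (↑((Finset.univ : Finset (Subgroup G)).filter
        (fun H : Subgroup G => Nat.card H = n')) : Set (Subgroup G)) := by
    intro x hx
    have := (Finset.mem_filter.mp (Finset.mem_coe.mp hx)).2
    exact Finset.mem_coe.mpr (Finset.mem_filter.mpr ⟨Finset.mem_univ _, this.2.1⟩)
  rw [Finset.card_eq_sum_card_fiberwise hmaps]
  apply Finset.sum_congr rfl
  intro T hT
  have hT' := (Finset.mem_filter.mp hT).2
  rw [mu_eq_card]
  apply Finset.card_nbij (fun x => x.1)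
  · intro x hx
    simp only [Finset.coe_filter, Finset.mem_filter, Finset.mem_univ, true_and,
      Set.mem_setOf_eq] at hx ⊢
    exact ⟨hx.1.1, hx.2 ▸ hx.1.2.2⟩
  · intro x hx y hy hxy
    simp only [Finset.coe_filter, Finset.mem_filter, Finset.mem_univ, true_and,
      Set.mem_setOf_eq] at hx hy
    exact Prod.ext hxy (hx.2.trans hy.2.symm)
  · intro S hS
    simp only [Finset.coe_filter, Finset.mem_filter, Finset.mem_univ, true_and,
      Set.mem_setOf_eq] at hS
    refine ⟨(S, T), ?_, rfl⟩
    simp only [Finset.coe_filter, Finset.mem_filter, Finset.mem_univ, true_and,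
      Set.mem_setOf_eq]
    exact ⟨⟨hS.1, hT', hS.2⟩, trivial⟩

variable {G : Type*} [Group G] [Fintype G] [DecidableEq G]

/-- [B1] double count of the pairs `(S, M)`, `|S| = p^a`, `|M| = p^(a+1)`, `S ≤ Stab M`. -/
theorem double_count (p a r : ℕ) (hp : p.Prime) (hn : Fintype.card G = p ^ (a + 1) * r) :
    sN G (p ^ a) * (p * r).choose p =
      (((Finset.univ : Finset G).powersetCard (p ^ (a + 1))).filter
        (fun M => Nat.card (stabilizer G M) = p ^ a)).card + r * pairsN G (p ^ a) (p ^ (a + 1)) := by
  classical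
  letI : Fintype (Subgroup G) := Fintype.ofFinite _
  set 𝒮 := (Finset.univ : Finset (Subgroup G)).filter (fun H : Subgroup G => Nat.card H = p ^ a) with h𝒮
  set 𝒯 := (Finset.univ : Finset (Subgroup G)).filter (fun H : Subgroup G => Nat.card H = p ^ (a + 1)) with h𝒯
  set Ω := (Finset.univ : Finset G).powersetCard (p ^ (a + 1)) with hΩ
  have hdc := Finset.sum_card_bipartiteAbove_eq_sum_card_bipartiteBelow (s := 𝒮) (t := Ω)
    (fun (S : Subgroup G) (M : Finset G) => S ≤ stabilizer G M)
  have hidx : ∀ (H : Subgroup G) (k c : ℕ), Nat.card H = p ^ k → p ^ (a + 1) * r = p ^ k * c →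
      H.index = c := by
    intro H k c hH hc
    have h2 := H.card_mul_index
    rw [hH, Nat.card_eq_fintype_card, hn, hc] at h2
    exact Nat.eq_of_mul_eq_mul_left (pow_pos hp.pos k) h2
  -- left side
  have hL : ∑ S ∈ 𝒮, (Ω.bipartiteAbove (fun (S : Subgroup G) (M : Finset G) => S ≤ stabilizer G M) S).card
      = sN G (p ^ a) * (p * r).choose p := by
    rw [Finset.sum_const_nat (m := (p * r).choose p), sN_eq_card]
    intro S hS
    have hS' : Nat.card S = p ^ a := (Finset.mem_filter.mp hS).2
    have h1 := card_invariant S p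
    rw [hS', hidx S a (p * r) hS' (by ring), ← pow_succ] at h1
    rw [← h1]
    unfold Finset.bipartiteAbove
    congr!
  -- right side
  have hR : ∀ M ∈ Ω, (𝒮.bipartiteBelow (fun (S : Subgroup G) (M : Finset G) => S ≤ stabilizer G M) M).card
      = (if Nat.card (stabilizer G M) = p ^ a then 1 else 0) +
        (if Nat.card (stabilizer G M) = p ^ (a + 1) then mu (p ^ a) (stabilizer G M) else 0) := by
    intro M hM
    have hMc : M.card = p ^ (a + 1) := (Finset.mem_powersetCard.mp hM).2
    have hne : p ^ a ≠ p ^ (a + 1) := by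
      intro h
      have := Nat.pow_right_injective hp.two_le h
      omega
    unfold Finset.bipartiteBelow
    by_cases h1 : Nat.card (stabilizer G M) = p ^ a
    · rw [if_pos h1, if_neg (by rw [h1]; exact hne), add_zero, Finset.card_eq_one]
      refine ⟨stabilizer G M, ?_⟩
      ext S
      simp only [h𝒮, Finset.mem_filter, Finset.mem_univ, true_and, Finset.mem_singleton]
      constructor
      · rintro ⟨hS, hle⟩
        exact Subgroup.eq_of_le_of_card_ge hle (by rw [hS, h1])
      · rintro rfl
        exact ⟨h1, le_rfl⟩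
    · rw [if_neg h1, zero_add]
      by_cases h2 : Nat.card (stabilizer G M) = p ^ (a + 1)
      · rw [if_pos h2, mu_eq_card]
      · rw [if_neg h2, Finset.card_eq_zero, Finset.filter_eq_empty_iff]
        intro S hS hle
        have hS' : Nat.card S = p ^ a := (Finset.mem_filter.mp hS).2
        have h3 := card_stabilizer_dvd M
        rw [hMc] at h3
        obtain ⟨j, hj, hj'⟩ := (Nat.dvd_prime_pow hp).mp h3
        have h4 : p ^ a ∣ p ^ j := by
          rw [← hS', ← hj']; exact Subgroup.card_dvd_of_le hle
        have h5 : a ≤ j := (Nat.pow_dvd_pow_iff_le_right hp.one_lt).mp h4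
        have : j = a ∨ j = a + 1 := by omega
        rcases this with rfl | rfl
        · exact h1 hj'
        · exact h2 hj'
  rw [hL, Finset.sum_congr rfl hR, Finset.sum_add_distrib] at hdc
  rw [hdc]
  congr 1
  · rw [Finset.card_filter]
  · rw [← Finset.sum_filter, pairsN_eq_sum, Finset.mul_sum]
    have hmaps : ∀ M ∈ Ω.filter (fun M => Nat.card (stabilizer G M) = p ^ (a + 1)),
        stabilizer G M ∈ 𝒯 := by
      intro M hM
      exact Finset.mem_filter.mpr ⟨Finset.mem_univ _, (Finset.mem_filter.mp hM).2⟩
    rw [← Finset.sum_fiberwise_of_maps_to hmaps]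
    have : ∀ T ∈ 𝒯, ∑ M ∈ (Ω.filter (fun M => Nat.card (stabilizer G M) = p ^ (a + 1))).filter
        (fun M => stabilizer G M = T), mu (p ^ a) (stabilizer G M) = r * mu (p ^ a) T := by
      intro T hT
      have hT' : Nat.card T = p ^ (a + 1) := (Finset.mem_filter.mp hT).2
      rw [Finset.sum_congr rfl (g := fun _ => mu (p ^ a) T)
        (fun M hM => by rw [(Finset.mem_filter.mp hM).2])]
      rw [Finset.sum_const, smul_eq_mul]
      congr 1
      have h1 := card_fiber T
      rw [hidx T (a + 1) r hT' rfl, hT'] at h1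
      rw [← h1]
      congr 1
      ext M
      simp only [Finset.mem_filter]
      constructor
      · rintro ⟨⟨h1, _⟩, h3⟩
        exact ⟨h1, h3⟩
      · rintro ⟨h1, h3⟩
        exact ⟨⟨h1, by rw [h3, hT']⟩, h3⟩
    rw [Finset.sum_congr rfl this]

end Cfsg.Agent.Lib.Helper91.Kul
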