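import Mathlib
import Cfsg.Agent.S3975
import Cfsg.Agent.Lib.Helper87.Kul.Defs
import Cfsg.Agent.Lib.Helper91.Kul.B1

set_option autoImplicit false

namespace Cfsg.Agent.Lib.Helper91.Kul

open MulAction
open scoped Pointwise
open Cfsg.Agent.Lib.Helper87.Kul Cfsg.Agent.S3975

variable {G : Type*} [Group G] [Fintype G] [DecidableEq G]

/-- [D] the subsets of size `p^(a+1)` whose stabilizer has order neither `p^(a+1)` nor `p^a`. -/
theorem dvd_card_small (p a r : ℕ) (hp : p.Prime) (hn : Fintype.card G = p ^ (a + 1) * r) :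
    p ^ 2 * r ∣ (((Finset.univ : Finset G).powersetCard (p ^ (a + 1))).filter
      (fun M => Nat.card (stabilizer G M) ≠ p ^ (a + 1) ∧ Nat.card (stabilizer G M) ≠ p ^ a)).card := by
  apply dvd_card_of_dvd_index_stabilizer (K := G)
  · intro g M hM
    rw [Finset.mem_filter, Finset.mem_powersetCard] at hM ⊢
    refine ⟨⟨Finset.subset_univ _, ?_⟩, ?_⟩
    · rw [Finset.card_smul_finset]; exact hM.1.2
    · rw [card_stabilizer_smul]; exact hM.2
  · intro M hM
    rw [Finset.mem_filter, Finset.mem_powersetCard] at hM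
    have h1 := card_stabilizer_dvd M
    rw [hM.1.2] at h1
    obtain ⟨j, hj, hj'⟩ := (Nat.dvd_prime_pow hp).mp h1
    have hjlt : j + 2 ≤ a + 1 := by
      have h1 : j ≠ a + 1 := fun h => hM.2.1 (by rw [hj', h])
      have h2 : j ≠ a := fun h => hM.2.2 (by rw [hj', h])
      omega
    have h2 := (stabilizer G M).card_mul_index
    rw [hj', Nat.card_eq_fintype_card, hn] at h2
    obtain ⟨c, hc⟩ := Nat.exists_eq_add_of_le hjlt
    have h3 : p ^ j * (stabilizer G M).index = p ^ j * (p ^ c * (p ^ 2 * r)) := by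
      rw [h2, hc]; ring
    have h4 := Nat.eq_of_mul_eq_mul_left (pow_pos hp.pos j) h3
    rw [h4]
    exact Dvd.intro_left _ rfl

/-- [B0] `|Ω₀| = r * s_(a+1)`. -/
theorem card_Omega0 (p a r : ℕ) (hp : p.Prime) (hn : Fintype.card G = p ^ (a + 1) * r) :
    (((Finset.univ : Finset G).powersetCard (p ^ (a + 1))).filter
      (fun M => Nat.card (stabilizer G M) = p ^ (a + 1))).card = r * sN G (p ^ (a + 1)) := by
  classical
  letI : Fintype (Subgroup G) := Fintype.ofFinite _
  set 𝒯 := (Finset.univ : Finset (Subgroup G)).filter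
    (fun H : Subgroup G => Nat.card H = p ^ (a + 1)) with h𝒯
  set Ω := (Finset.univ : Finset G).powersetCard (p ^ (a + 1)) with hΩ
  have hmaps : (↑(Ω.filter (fun M => Nat.card (stabilizer G M) = p ^ (a + 1))) :
      Set (Finset G)).MapsTo (fun M => stabilizer G M) (↑𝒯 : Set (Subgroup G)) := by
    intro M hM
    exact Finset.mem_coe.mpr (Finset.mem_filter.mpr ⟨Finset.mem_univ _,
      (Finset.mem_filter.mp (Finset.mem_coe.mp hM)).2⟩)
  rw [Finset.card_eq_sum_card_fiberwise hmaps, Finset.sum_const_nat (m := r), sN_eq_card, mul_comm]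
  intro T hT
  have hT' : Nat.card T = p ^ (a + 1) := (Finset.mem_filter.mp hT).2
  have hidx : T.index = r := by
    have h2 := T.card_mul_index
    rw [hT', Nat.card_eq_fintype_card, hn] at h2
    exact Nat.eq_of_mul_eq_mul_left (pow_pos hp.pos _) h2
  have h1 := card_fiber T
  rw [hidx, hT'] at h1
  rw [← h1]
  congr 1
  ext M
  simp only [Finset.mem_filter]
  constructor
  · rintro ⟨⟨h1, _⟩, h3⟩
    exact ⟨h1, h3⟩
  · rintro ⟨h1, h3⟩
    exact ⟨⟨h1, by rw [h3, hT']⟩, h3⟩

/-- [STAR] second order Wielandt count. -/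
theorem star (p a r : ℕ) (hp : p.Prime) (hn : Fintype.card G = p ^ (a + 1) * r) :
    ∃ t, (p ^ (a + 1) * r).choose (p ^ (a + 1)) + r * pairsN G (p ^ a) (p ^ (a + 1)) =
      r * sN G (p ^ (a + 1)) + sN G (p ^ a) * (p * r).choose p + p ^ 2 * r * t := by
  classical
  obtain ⟨t, ht⟩ := dvd_card_small (G := G) p a r hp hn
  refine ⟨t, ?_⟩
  have h0 := card_Omega0 (G := G) p a r hp hn
  have h1 := double_count (G := G) p a r hp hn
  set Ω := (Finset.univ : Finset G).powersetCard (p ^ (a + 1)) with hΩ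
  have hΩcard : Ω.card = (p ^ (a + 1) * r).choose (p ^ (a + 1)) := by
    rw [hΩ, Finset.card_powersetCard, Finset.card_univ, hn]
  have hne : p ^ a ≠ p ^ (a + 1) := by
    intro h
    have := Nat.pow_right_injective hp.two_le h
    omega
  have hs1 : (Ω.filter (fun M => Nat.card (stabilizer G M) = p ^ (a + 1))).card +
      (Ω.filter (fun M => ¬ Nat.card (stabilizer G M) = p ^ (a + 1))).card = Ω.card :=
    Finset.card_filter_add_card_filter_not _
  have hs2 : ((Ω.filter (fun M => ¬ Nat.card (stabilizer G M) = p ^ (a + 1))).filter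
        (fun M => Nat.card (stabilizer G M) = p ^ a)).card +
      ((Ω.filter (fun M => ¬ Nat.card (stabilizer G M) = p ^ (a + 1))).filter
        (fun M => ¬ Nat.card (stabilizer G M) = p ^ a)).card =
      (Ω.filter (fun M => ¬ Nat.card (stabilizer G M) = p ^ (a + 1))).card :=
    Finset.card_filter_add_card_filter_not _
  have e1 : (Ω.filter (fun M => ¬ Nat.card (stabilizer G M) = p ^ (a + 1))).filter
        (fun M => Nat.card (stabilizer G M) = p ^ a) =
      Ω.filter (fun M => Nat.card (stabilizer G M) = p ^ a) := by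
    ext M
    simp only [Finset.mem_filter]
    constructor
    · rintro ⟨⟨h1, _⟩, h3⟩
      exact ⟨h1, h3⟩
    · rintro ⟨h1, h3⟩
      exact ⟨⟨h1, by rw [h3]; exact hne⟩, h3⟩
  have e2 : (Ω.filter (fun M => ¬ Nat.card (stabilizer G M) = p ^ (a + 1))).filter
        (fun M => ¬ Nat.card (stabilizer G M) = p ^ a) =
      Ω.filter (fun M => Nat.card (stabilizer G M) ≠ p ^ (a + 1) ∧
        Nat.card (stabilizer G M) ≠ p ^ a) := by
    rw [Finset.filter_filter]
  rw [e1, e2, ht] at hs2
  rw [← hΩcard, ← hs1, ← hs2, h0, h1]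
  ring

end Cfsg.Agent.Lib.Helper91.Kul
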