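import Mathlib
import Cfsg.Agent.S3975
import Cfsg.Agent.Lib.Helper87.Kul.Defs
import Cfsg.Agent.Lib.Helper91.Kul.B1

set_option autoImplicit false

namespace Cfsg.Agent.Lib.Helper91.Kul

open Cfsg.Agent.Lib.Helper87.Kul Cfsg.Agent.S3975

/-- [E'] with [E1] and [E2] as hypotheses. -/
theorem pairs_modEq_of {G : Type*} [Group G] [Finite G] (p a : ℕ)
    (h1 : ∀ T : Subgroup G, Nat.card T = p ^ (a + 1) → IsCyclic T → mu (p ^ a) T = 1)
    (h2 : ∀ T : Subgroup G, Nat.card T = p ^ (a + 1) → ¬ IsCyclic T →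
      mu (p ^ a) T ≡ 1 + p [MOD p ^ 2]) :
    pairsN G (p ^ a) (p ^ (a + 1)) ≡ sN G (p ^ (a + 1)) + p * ncN G (p ^ (a + 1)) [MOD p ^ 2] := by
  classical
  letI : Fintype (Subgroup G) := Fintype.ofFinite _
  rw [pairsN_eq_sum, sN_eq_card]
  set 𝒯 := (Finset.univ : Finset (Subgroup G)).filter
    (fun H : Subgroup G => Nat.card H = p ^ (a + 1)) with h𝒯
  have hnc : ncN G (p ^ (a + 1)) = (𝒯.filter (fun T : Subgroup G => ¬ IsCyclic T)).card := by
    unfold ncN
    rw [Nat.card_eq_fintype_card, Fintype.card_subtype, h𝒯, Finset.filter_filter]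
  have hsum : 𝒯.card + p * ncN G (p ^ (a + 1)) =
      ∑ T ∈ 𝒯, (1 + if ¬ IsCyclic T then p else 0) := by
    rw [Finset.sum_add_distrib, Finset.sum_const, smul_eq_mul, mul_one, ← Finset.sum_filter,
      Finset.sum_const, smul_eq_mul, hnc, mul_comm p]
  rw [hsum]
  unfold Nat.ModEq
  rw [Finset.sum_nat_mod, Finset.sum_nat_mod (f := fun T : Subgroup G => 1 + if ¬ IsCyclic T then p else 0)]
  congr 1
  apply Finset.sum_congr rfl
  intro T hT
  have hT' : Nat.card T = p ^ (a + 1) := (Finset.mem_filter.mp hT).2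
  by_cases hc : IsCyclic T
  · rw [h1 T hT' hc, if_neg (not_not.mpr hc)]
  · rw [if_pos hc]
    exact h2 T hT' hc

end Cfsg.Agent.Lib.Helper91.Kul
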